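import Groth.Agent.Lib.Lim.SmoothEtale
import Groth.Agent.H2.Rigid.SubDiagram

/-!
# Models over finitely generated subrings
-/

set_option autoImplicit false
set_option linter.style.haveILetI false
set_option backward.isDefEq.respectTransparency false

universe u

open CategoryTheory CategoryTheory.Limits AlgebraicGeometry
open Groth.Agent.Lib.Lim.Descend Groth.Agent.H2.Rigid

namespace Groth.Agent.Lib.GenFlatten

/-- A descending property has a model over a finitely generated subring. -/
theorem exists_model_fg {P Q : MorphismProperty Scheme.{u}}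
    (H : Descends P Q) (hQ : ∀ {X Y : Scheme.{u}} (f : X ⟶ Y), LocallyOfFinitePresentation f → Q f)
    (A : Type u) [CommRing A] {X : Scheme.{u}} (f : X ⟶ Spec (CommRingCat.of A))
    [LocallyOfFinitePresentation f] [QuasiCompact f] [QuasiSeparated f] (hP : P f) :
    ∃ A₀ : Subalgebra ℤ A, A₀.FG ∧
      ∃ (X₀ : Scheme.{u}) (f₀ : X₀ ⟶ Spec (CommRingCat.of ↥A₀)) (g : X ⟶ X₀),
        P f₀ ∧ LocallyOfFinitePresentation f₀ ∧ QuasiCompact f₀ ∧
          IsPullback g f f₀ (Spec.map (CommRingCat.ofHom (algebraMap (↥A₀) A))) := by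
  let B : CommRingCat.{u} := CommRingCat.of A
  have hD : ∀ (i j : (Finset B)ᵒᵖ) (φ : i ⟶ j), IsAffineHom ((SubDiagram.diagram B).map φ) :=
    fun _ _ φ => inferInstance
  have : ∀ {i j : (Finset B)ᵒᵖ} (φ : i ⟶ j), IsAffineHom ((SubDiagram.diagram B).map φ) := fun φ => hD _ _ φ
  haveI : ∀ i, CompactSpace ((SubDiagram.diagram B).obj i) := fun i => inferInstance
  haveI : ∀ i, QuasiSeparatedSpace ((SubDiagram.diagram B).obj i) := fun i => inferInstance
  haveI : CompactSpace X := QuasiCompact.compactSpace_of_compactSpace f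
  haveI : QuasiSeparatedSpace X := quasiSeparatedSpace_of_quasiSeparated f
  obtain ⟨i, Xi, fi, g, hXc, hXq, hfi, hg⟩ :=
    Lim.FPDescend.exists_descent (D := SubDiagram.diagram B) (SubDiagram.isLimitCone B) f
  obtain ⟨k, φ, hk⟩ := H (SubDiagram.diagram B) (SubDiagram.cone B) (SubDiagram.isLimitCone B) hD i
    inferInstance inferInstance fi hXc hXq (hQ fi hfi) f g hg hP
  haveI := Lim.FPDescend.compactSpace_stage (D := SubDiagram.diagram B) fi φ
  have hmove := Lim.FPDescend.move (D := SubDiagram.diagram B) (c := SubDiagram.cone B) hg φ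
  refine ⟨Algebra.adjoin ℤ ((k.unop : Finset B) : Set A), Subalgebra.fg_def.2 ⟨_, k.unop.finite_toSet, rfl⟩,
    _, pullback.snd fi ((SubDiagram.diagram B).map φ), _, hk,
    MorphismProperty.pullback_snd _ _ hfi, (quasiCompact_iff_compactSpace _).2 inferInstance, hmove⟩

end Groth.Agent.Lib.GenFlatten
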