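import Groth.Agent.Lib.GenFlatten.Core
import Groth.Agent.Lib.SchDom.Scheme
import Groth.Agent.Lib.CechRes.PullSec
import Groth.Agent.Lib.DescAlg.FPPush
import Groth.Agent.H47.FlatKernelScheme

/-!
# Flatness of a base change, chart by chart
-/

set_option autoImplicit false
set_option linter.style.haveILetI false

universe u

open CategoryTheory CategoryTheory.Limits AlgebraicGeometry TensorProduct

namespace Groth.Agent.Lib.GenFlatten

attribute [local instance] Algebra.TensorProduct.rightAlgebra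

variable {X S S' : Scheme.{u}} (p : X ⟶ S) (g : S' ⟶ S) (F : X.Modules) [F.IsQuasicoherent]

/-- The flatness of the sections on a chart of a base change. -/
theorem flat_chart_iff {US : S.Opens} {V : X.Opens} {U' : S'.Opens} (hUS : IsAffineOpen US)
    (hV : IsAffineOpen V) (hU' : IsAffineOpen U') (eV : V ≤ p ⁻¹ᵁ US) (eU : U' ≤ g ⁻¹ᵁ US) :
    (letI := Module.compHom Γ(((Scheme.Modules.pullback (pullback.fst p g)).obj F),
        pullback.fst p g ⁻¹ᵁ V ⊓ pullback.snd p g ⁻¹ᵁ U')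
        ((pullback.snd p g).appLE U' (pullback.fst p g ⁻¹ᵁ V ⊓ pullback.snd p g ⁻¹ᵁ U') inf_le_right).hom;
      Module.Flat Γ(S', U') Γ(((Scheme.Modules.pullback (pullback.fst p g)).obj F),
        pullback.fst p g ⁻¹ᵁ V ⊓ pullback.snd p g ⁻¹ᵁ U')) ↔
    (letI := (p.appLE US V eV).hom.toAlgebra;
      letI := (g.appLE US U' eU).hom.toAlgebra;
      letI : Module Γ(S, US) Γ(F, V) := Module.compHom _ (p.appLE US V eV).hom;
      Module.Flat Γ(S', U') (Γ(S', U') ⊗[Γ(S, US)] Γ(F, V))) := by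
  letI := (p.appLE US V eV).hom.toAlgebra
  letI := (g.appLE US U' eU).hom.toAlgebra
  letI : Module Γ(S, US) Γ(F, V) := Module.compHom _ (p.appLE US V eV).hom
  haveI : IsScalarTower Γ(S, US) Γ(X, V) Γ(F, V) := IsScalarTower.of_algebraMap_smul fun _ _ => rfl
  set O := pullback.fst p g ⁻¹ᵁ V ⊓ pullback.snd p g ⁻¹ᵁ U' with hO
  set N := (Scheme.Modules.pullback (pullback.fst p g)).obj F
  obtain ⟨hOaff, e, he⟩ := SchDom.exists_chartEquiv (IsPullback.of_hasPullback p g) hUS hV hU' eV eU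
  letI : Algebra Γ(X, V) Γ(pullback p g, O) := ((pullback.fst p g).appLE V O inf_le_left).hom.toAlgebra
  letI : Algebra Γ(S', U') Γ(pullback p g, O) := ((pullback.snd p g).appLE U' O inf_le_right).hom.toAlgebra
  letI : Algebra Γ(S, US) Γ(pullback p g, O) :=
    ((algebraMap Γ(X, V) Γ(pullback p g, O)).comp (algebraMap Γ(S, US) Γ(X, V))).toAlgebra
  haveI : IsScalarTower Γ(S, US) Γ(X, V) Γ(pullback p g, O) := IsScalarTower.of_algebraMap_eq fun _ => rfl
  haveI : IsScalarTower Γ(S, US) Γ(S', U') Γ(pullback p g, O) := IsScalarTower.of_algebraMap_eq fun r => by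
    show (pullback.fst p g).appLE V O inf_le_left (p.appLE US V eV r) =
      (pullback.snd p g).appLE U' O inf_le_right (g.appLE US U' eU r)
    rw [SchDom.appLE_appLE, SchDom.appLE_appLE]
    simp only [pullback.condition]
  let eA : (Γ(X, V) ⊗[Γ(S, US)] Γ(S', U')) ≃ₐ[Γ(X, V)] Γ(pullback p g, O) := AlgEquiv.ofRingEquiv (f := e) fun a => by
    rw [Algebra.TensorProduct.algebraMap_apply, he, map_one, mul_one]
    rfl
  haveI : Algebra.IsPushout Γ(S, US) Γ(X, V) Γ(S', U') Γ(pullback p g, O) :=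
    Algebra.IsPushout.of_equiv eA (RingHom.ext fun b => by
      show e ((1 : Γ(X, V)) ⊗ₜ b) = _
      rw [he, map_one, one_mul]
      rfl)
  haveI : Algebra.IsPushout Γ(S, US) Γ(S', U') Γ(X, V) Γ(pullback p g, O) := Algebra.IsPushout.symm inferInstance
  letI : Module Γ(S', U') Γ(N, O) := Module.compHom _ ((pullback.snd p g).appLE U' O inf_le_right).hom
  haveI : IsScalarTower Γ(S', U') Γ(pullback p g, O) Γ(N, O) := IsScalarTower.of_algebraMap_smul fun _ _ => rfl
  letI : Module Γ(X, V) Γ(N, O) := Module.compHom _ ((pullback.fst p g).appLE V O inf_le_left).hom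
  haveI : IsScalarTower Γ(X, V) Γ(pullback p g, O) Γ(N, O) := IsScalarTower.of_algebraMap_smul fun _ _ => rfl
  have hb := CechRes.PullSec.isBaseChange_mu (pullback.fst p g) F hV hOaff inf_le_left
  let E : Γ(N, O) ≃ₗ[Γ(S', U')] Γ(S', U') ⊗[Γ(S, US)] Γ(F, V) :=
    hb.equiv.symm.restrictScalars Γ(S', U') ≪≫ₗ
      Algebra.IsPushout.cancelBaseChange Γ(S, US) Γ(S', U') Γ(X, V) Γ(pullback p g, O) Γ(F, V)
  exact ⟨fun _ => Module.Flat.of_linearEquiv E.symm, fun _ => Module.Flat.of_linearEquiv E⟩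

/-- Flatness of a base change over an affine scheme, tested on charts. -/
theorem isFlatOver_baseChange_iff {κ : Type*} (V : κ → X.Opens) (hV : ∀ k, IsAffineOpen (V k))
    (hcov : ∀ x : X, ∃ k, x ∈ V k) {US : S.Opens} (hUS : IsAffineOpen US) [IsAffine S']
    (eV : ∀ k, V k ≤ p ⁻¹ᵁ US) (eU : (⊤ : S'.Opens) ≤ g ⁻¹ᵁ US) :
    FlatMod.IsFlatOver (pullback.snd p g) ((Scheme.Modules.pullback (pullback.fst p g)).obj F) ↔
      ∀ k, (letI := (p.appLE US (V k) (eV k)).hom.toAlgebra;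
        letI := (g.appLE US ⊤ eU).hom.toAlgebra;
        letI : Module Γ(S, US) Γ(F, V k) := Module.compHom _ (p.appLE US (V k) (eV k)).hom;
        Module.Flat Γ(S', ⊤) (Γ(S', ⊤) ⊗[Γ(S, US)] Γ(F, V k))) := by
  haveI := QCoh.Pullback.isQCoh_pullback (pullback.fst p g) F
  have hS' : IsAffineOpen (⊤ : S'.Opens) := isAffineOpen_top _
  have hOaff : ∀ k, IsAffineOpen (pullback.fst p g ⁻¹ᵁ V k ⊓ pullback.snd p g ⁻¹ᵁ ⊤) := fun k =>
    (SchDom.exists_chartEquiv (IsPullback.of_hasPullback p g) hUS (hV k) hS' (eV k) eU).1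
  constructor
  · intro h k
    exact (flat_chart_iff p g F hUS (hV k) hS' (eV k) eU).1
      (H47.FlatKernelScheme.flat_sections (pullback.snd p g) _ hS' (hOaff k) inf_le_right h)
  · intro h y
    obtain ⟨k, hk⟩ := hcov (pullback.fst p g y)
    have hy : y ∈ pullback.fst p g ⁻¹ᵁ V k ⊓ pullback.snd p g ⁻¹ᵁ ⊤ := ⟨hk, trivial⟩
    have hflat := (flat_chart_iff p g F hUS (hV k) hS' (eV k) eU).2 (h k)
    refine (H19.FlatLocus.Scheme.isFlatOverAt_iff (pullback.snd p g) _ hS' (hOaff k) inf_le_right hy).2 ?_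
    letI := ((pullback.snd p g).appLE ⊤ (pullback.fst p g ⁻¹ᵁ V k ⊓ pullback.snd p g ⁻¹ᵁ ⊤) inf_le_right).hom.toAlgebra
    letI := Module.compHom Γ((Scheme.Modules.pullback (pullback.fst p g)).obj F,
      pullback.fst p g ⁻¹ᵁ V k ⊓ pullback.snd p g ⁻¹ᵁ ⊤)
      ((pullback.snd p g).appLE ⊤ (pullback.fst p g ⁻¹ᵁ V k ⊓ pullback.snd p g ⁻¹ᵁ ⊤) inf_le_right).hom
    haveI := hflat
    haveI : IsScalarTower Γ(S', ⊤) Γ(pullback p g, pullback.fst p g ⁻¹ᵁ V k ⊓ pullback.snd p g ⁻¹ᵁ ⊤)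
        Γ((Scheme.Modules.pullback (pullback.fst p g)).obj F, pullback.fst p g ⁻¹ᵁ V k ⊓ pullback.snd p g ⁻¹ᵁ ⊤) :=
      IsScalarTower.of_algebraMap_smul fun _ _ => rfl
    exact H19.FlatLocus.Model.flat_localized ((hOaff k).primeIdealOf ⟨y, hy⟩).asIdeal.primeCompl (LocalizedModule.mkLinearMap _ _)

end Groth.Agent.Lib.GenFlatten
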