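import Groth.Agent.Lib.GenFlatten.Nilpotent
import Groth.Agent.H47.GenericFree
import Groth.Agent.H19.FlatLocus.Model
import Mathlib.RingTheory.Spectrum.Prime.Topology
import Mathlib.RingTheory.Ideal.Quotient.Noetherian
import Mathlib.RingTheory.Noetherian.Nilpotent

/-!
# Generic flattening ideal over a ring with irreducible spectrum
-/

set_option autoImplicit false
set_option linter.style.haveILetI false

universe u

open TensorProduct

namespace Groth.Agent.Lib.GenFlatten

attribute [local instance] Algebra.TensorProduct.rightAlgebra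

/-- The Noetherian case. -/
theorem exists_flattening_noetherian {A B M : Type u} [CommRing A] [IsNoetherianRing A]
    [CommRing B] [Algebra A B] [Algebra.FiniteType A B] [AddCommGroup M] [Module B M] [Module A M]
    [IsScalarTower A B M] [Module.Finite B M] (hp : (nilradical A).IsPrime) :
    ∃ (h : A) (J : Ideal A), h ∉ nilradical A ∧ J ≤ nilradical A ∧
      ∀ (A' : Type u) [CommRing A'] [Algebra A A'], IsUnit (algebraMap A A' h) →
        (Module.Flat A' (A' ⊗[A] M) ↔ J.map (algebraMap A A') = ⊥) := by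
  haveI := hp
  let D := A ⧸ nilradical A
  haveI : IsNoetherianRing D := inferInstanceAs (IsNoetherianRing (A ⧸ nilradical A))
  haveI : IsDomain D := Ideal.Quotient.isDomain (nilradical A)
  obtain ⟨f, hf, hfree⟩ := (H47.GenericFree.gf_of_finiteType (R := D) (D ⊗[A] B) ((D ⊗[A] B) ⊗[B] M)).of_equiv
    (Algebra.IsPushout.cancelBaseChange A D B (D ⊗[A] B) M)
  obtain ⟨h, rfl⟩ := Ideal.Quotient.mk_surjective f
  have hh : h ∉ nilradical A := fun hc => hf (Ideal.Quotient.eq_zero_iff_mem.2 hc)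
  let Q := Localization.Away (Ideal.Quotient.mk (nilradical A) h)
  let R := Localization.Away h
  have hu : IsUnit (algebraMap A Q h) := by
    rw [IsScalarTower.algebraMap_apply A D Q]
    exact IsLocalization.Away.algebraMap_isUnit (Ideal.Quotient.mk (nilradical A) h)
  letI : Algebra R Q := (IsLocalization.Away.lift h hu).toAlgebra
  haveI : IsScalarTower A R Q := IsScalarTower.of_algebraMap_eq fun a =>
    (IsLocalization.Away.lift_eq h hu a).symm
  haveI : IsNoetherianRing R := IsLocalization.isNoetherianRing (Submonoid.powers h) _ inferInstance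
  have hsurj : Function.Surjective (algebraMap R Q) := by
    intro q
    obtain ⟨⟨d, ⟨_, k, rfl⟩⟩, hd⟩ :=
      IsLocalization.surj (Submonoid.powers (Ideal.Quotient.mk (nilradical A) h)) q
    obtain ⟨d, rfl⟩ := Ideal.Quotient.mk_surjective d
    refine ⟨IsLocalization.mk' R d (⟨h ^ k, k, rfl⟩ : Submonoid.powers h), ?_⟩
    have h1 : algebraMap R Q (IsLocalization.mk' R d (⟨h ^ k, k, rfl⟩ : Submonoid.powers h)) * algebraMap A Q (h ^ k) =
        algebraMap A Q d := by
      rw [IsScalarTower.algebraMap_apply A R Q, IsScalarTower.algebraMap_apply A R Q, ← map_mul]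
      exact congrArg _ (IsLocalization.mk'_spec R d (⟨h ^ k, k, rfl⟩ : Submonoid.powers h))
    refine (hu.pow k).mul_left_injective ?_
    show _ * algebraMap A Q h ^ k = _ * algebraMap A Q h ^ k
    rw [← map_pow, h1]
    refine Eq.trans ?_ (hd.symm.trans ?_)
    · exact IsScalarTower.algebraMap_apply A D Q d
    · rw [IsScalarTower.algebraMap_apply A D Q (h ^ k)]
      exact congrArg (q * ·) (congrArg (algebraMap D Q) (map_pow (Ideal.Quotient.mk (nilradical A)) h k).symm)
  have hker : ∀ a : A, algebraMap A Q a = 0 → a ∈ nilradical A := by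
    intro a ha
    rw [IsScalarTower.algebraMap_apply A D Q] at ha
    obtain ⟨⟨_, k, rfl⟩, hk⟩ := (IsLocalization.map_eq_zero_iff
      (Submonoid.powers (Ideal.Quotient.mk (nilradical A) h)) Q _).1 ha
    have h1 : h ^ k * a ∈ nilradical A := Ideal.Quotient.eq_zero_iff_mem.1 (by
      rw [map_mul, map_pow]; exact hk)
    exact (hp.mem_or_mem h1).resolve_left fun hc => hh (hp.mem_of_pow_mem k hc)
  have hkn : RingHom.ker (algebraMap R Q) ≤ nilradical R := by
    intro x hx
    obtain ⟨⟨a, ⟨_, k, rfl⟩⟩, ha⟩ := IsLocalization.surj (Submonoid.powers h) x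
    have h1 : algebraMap A Q a = 0 := by
      rw [IsScalarTower.algebraMap_apply A R Q, ← ha, map_mul, RingHom.mem_ker.1 hx, zero_mul]
    obtain ⟨N, hN⟩ := mem_nilradical.1 (hker a h1)
    refine mem_nilradical.2 ⟨N, ?_⟩
    have h2 := congrArg (fun z => z ^ N) ha
    simp only [mul_pow, ← map_pow, hN, map_zero] at h2
    exact (IsUnit.mul_left_eq_zero (((IsLocalization.map_units R (⟨h ^ k, k, rfl⟩ : Submonoid.powers h))).pow N)).1
      (by rw [← map_pow]; exact h2)
  have hn : IsNilpotent (RingHom.ker (algebraMap R Q)) := by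
    obtain ⟨N, hN⟩ := IsNoetherianRing.isNilpotent_nilradical R
    exact ⟨N, le_bot_iff.1 ((Ideal.pow_right_mono hkn N).trans hN.le)⟩
  haveI : Module.Free Q (Q ⊗[R] (R ⊗[A] M)) := by
    haveI : Module.Free Q (Q ⊗[D] (D ⊗[A] M)) := hfree
    exact Module.Free.of_equiv (AlgebraTensorModule.cancelBaseChange A D Q Q M ≪≫ₗ
      (AlgebraTensorModule.cancelBaseChange A R Q Q M).symm)
  obtain ⟨J, hJn, hJ⟩ := exists_flattening_of_free (M := R ⊗[A] M) hsurj hn
  refine ⟨h, J.comap (algebraMap A R), hh, fun a ha => hker a ?_, fun A' _ _ hA' => ?_⟩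
  · rw [IsScalarTower.algebraMap_apply A R Q]
    exact hJn ha
  letI : Algebra R A' := (IsLocalization.Away.lift h hA').toAlgebra
  haveI : IsScalarTower A R A' := IsScalarTower.of_algebraMap_eq fun a =>
    (IsLocalization.Away.lift_eq h hA' a).symm
  have hmap : (J.comap (algebraMap A R)).map (algebraMap A A') = J.map (algebraMap R A') := by
    rw [IsScalarTower.algebraMap_eq A R A', ← Ideal.map_map,
      IsLocalization.map_under (Submonoid.powers h)]
  rw [hmap, ← hJ A']
  let e := AlgebraTensorModule.cancelBaseChange A R A' A' M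
  exact ⟨fun _ => Module.Flat.of_linearEquiv e, fun _ => Module.Flat.of_linearEquiv e.symm⟩

/-- The general case, by descent to a finitely generated subring. -/
theorem exists_flattening {A B M : Type u} [CommRing A] [CommRing B] [Algebra A B]
    [Algebra.FinitePresentation A B] [AddCommGroup M] [Module B M] [Module A M]
    [IsScalarTower A B M] [Module.FinitePresentation B M] (hp : (nilradical A).IsPrime) :
    ∃ (h : A) (J : Ideal A), h ∉ nilradical A ∧ J.FG ∧ J ≤ nilradical A ∧
      ∀ (A' : Type u) [CommRing A'] [Algebra A A'], IsUnit (algebraMap A A' h) →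
        (Module.Flat A' (A' ⊗[A] M) ↔ J.map (algebraMap A A') = ⊥) := by
  obtain ⟨A₀, _, _, B₀, _, _, _, _, _, _, M₀, _, _, _, _, _, _, F, hA₀, hB₀, hM₀, hpush, hbc, -⟩ :=
    H19.FlatLocus.Model.exists_model A B M
  let A₁ : Subalgebra A₀ A := ⊥
  haveI : IsNoetherianRing A₀ := Algebra.FiniteType.isNoetherianRing ℤ A₀
  haveI : IsNoetherianRing A₁ := isNoetherianRing_of_surjective A₀ A₁ (algebraMap A₀ A₁) fun x => by
    obtain ⟨a, ha⟩ := Algebra.mem_bot.1 x.2
    exact ⟨a, Subtype.ext ha⟩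
  have hp₁ : (nilradical A₁).IsPrime := by
    have : nilradical A₁ = (nilradical A).comap (algebraMap A₁ A) := by
      ext x
      simp only [Ideal.mem_comap, mem_nilradical]
      exact (IsNilpotent.map_iff (f := algebraMap A₁ A) Subtype.val_injective).symm
    rw [this]
    haveI := hp
    exact Ideal.IsPrime.comap _
  obtain ⟨h, J, hh, hJn, hJ⟩ := exists_flattening_noetherian (A := A₁) (B := A₁ ⊗[A₀] B₀)
    (M := (A₁ ⊗[A₀] B₀) ⊗[B₀] M₀) hp₁
  refine ⟨algebraMap A₁ A h, J.map (algebraMap A₁ A), fun hc => hh ?_, ?_, ?_, fun A' _ _ hA' => ?_⟩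
  · rw [mem_nilradical] at hc ⊢
    exact (IsNilpotent.map_iff (f := algebraMap A₁ A) Subtype.val_injective).1 hc
  · exact Ideal.FG.map (IsNoetherian.noetherian J) _
  · rw [Ideal.map_le_iff_le_comap]
    exact fun x hx => mem_nilradical.2 ((mem_nilradical.1 (hJn hx)).map _)
  letI : Algebra A₀ A' := ((algebraMap A A').comp (algebraMap A₀ A)).toAlgebra
  haveI : IsScalarTower A₀ A A' := IsScalarTower.of_algebraMap_eq fun _ => rfl
  haveI : IsScalarTower A₀ A₁ A' := IsScalarTower.of_algebraMap_eq fun _ => rfl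
  rw [Ideal.map_map]
  show _ ↔ J.map (algebraMap A₁ A') = ⊥
  rw [← hJ A' hA']
  haveI := hpush
  let eM : A ⊗[A₀] M₀ ≃ₗ[A] M :=
    (Algebra.IsPushout.cancelBaseChange A₀ A B₀ B M₀).symm ≪≫ₗ hbc.equiv.restrictScalars A
  let e₁ : A' ⊗[A] M ≃ₗ[A'] A' ⊗[A₀] M₀ :=
    AlgebraTensorModule.congr (LinearEquiv.refl A' A') eM.symm ≪≫ₗ
      AlgebraTensorModule.cancelBaseChange A₀ A A' A' M₀
  let e₂ : A' ⊗[A₁] ((A₁ ⊗[A₀] B₀) ⊗[B₀] M₀) ≃ₗ[A'] A' ⊗[A₀] M₀ :=
    AlgebraTensorModule.congr (LinearEquiv.refl A' A') (Algebra.IsPushout.cancelBaseChange A₀ A₁ B₀ (A₁ ⊗[A₀] B₀) M₀) ≪≫ₗ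
      AlgebraTensorModule.cancelBaseChange A₀ A₁ A' A' M₀
  exact ⟨fun _ => Module.Flat.of_linearEquiv (e₂ ≪≫ₗ e₁.symm), fun _ => Module.Flat.of_linearEquiv (e₁ ≪≫ₗ e₂.symm)⟩

end Groth.Agent.Lib.GenFlatten
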