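import Mathlib.RingTheory.Flat.Basic
import Mathlib.RingTheory.Noetherian.Basic
import Mathlib.LinearAlgebra.Finsupp.Supported
import Mathlib.RingTheory.Ideal.Quotient.Operations
import Mathlib.LinearAlgebra.TensorProduct.Quotient
import Mathlib.LinearAlgebra.DirectSum.Finsupp
import Mathlib.RingTheory.TensorProduct.Finite

/-!
# The flattening ideal of a module that is free modulo a nilpotent ideal
-/

set_option autoImplicit false
set_option linter.style.haveILetI false

universe u

open TensorProduct

namespace Groth.Agent.Lib.GenFlatten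

variable {R : Type u} [CommRing R]

theorem eq_top_of_sup_smul_top {M : Type u} [AddCommGroup M] [Module R M] (n : Ideal R)
    (hn : IsNilpotent n) (P : Submodule R M) (h : ∀ m, m ∈ P ⊔ n • (⊤ : Submodule R M)) : P = ⊤ := by
  have hk : ∀ k : ℕ, (⊤ : Submodule R M) ≤ P ⊔ n ^ k • (⊤ : Submodule R M) := by
    intro k
    induction k with
    | zero => simp
    | succ k ih =>
      refine ih.trans (sup_le le_sup_left ?_)
      calc n ^ k • (⊤ : Submodule R M) ≤ n ^ k • (P ⊔ n • (⊤ : Submodule R M)) :=
            Submodule.smul_mono le_rfl fun m _ => h m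
        _ = n ^ k • P ⊔ n ^ (k + 1) • (⊤ : Submodule R M) := by
            rw [Submodule.smul_sup, ← Submodule.smul_assoc, smul_eq_mul, ← pow_succ]
        _ ≤ _ := sup_le_sup_right Submodule.smul_le_right _
  obtain ⟨k, hk'⟩ := hn
  have := hk k
  rw [hk', Submodule.zero_eq_bot, Submodule.bot_smul, sup_bot_eq] at this
  exact top_le_iff.1 this

/-- A vector with coordinates in a nilpotent ideal, killed by a map to a flat module that is
independent modulo the ideal, vanishes. -/
theorem eq_zero_of_flat {N : Type u} [AddCommGroup N] [Module R N] [Module.Flat R N] (n : Ideal R)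
    (hn : IsNilpotent n) {α : Type u} [DecidableEq α] (y : α → N) (c : α → N →ₗ[R] R ⧸ n)
    (hc : ∀ a b, c a (y b) = if a = b then 1 else 0) (v : α →₀ R)
    (hv : Finsupp.linearCombination R y v = 0) : v = 0 := by
  have hk : ∀ k : ℕ, ∀ a, v a ∈ n ^ k := by
    intro k
    induction k with
    | zero => simp
    | succ k ih =>
      intro a
      let J : Ideal R := n ^ k
      let t : ↥J ⊗[R] N := ∑ b ∈ v.support, (⟨v b, ih b⟩ : J) ⊗ₜ y b
      have ht : t = 0 := by
        have hinj : Function.Injective (TensorProduct.lid R N ∘ J.subtype.rTensor N) :=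
          (TensorProduct.lid R N).injective.comp
            (Module.Flat.rTensor_preserves_injective_linearMap J.subtype Subtype.val_injective)
        refine hinj ?_
        show TensorProduct.lid R N (J.subtype.rTensor N t) = TensorProduct.lid R N (J.subtype.rTensor N 0)
        rw [map_zero, map_zero]
        simp only [t, map_sum, LinearMap.rTensor_tmul, TensorProduct.lid_tmul, Submodule.subtype_apply]
        rw [← hv, Finsupp.linearCombination_apply, Finsupp.sum]
      have h1 := congrArg (TensorProduct.tensorQuotEquivQuotSMul ↥J n) (congrArg (LinearMap.lTensor ↥J (c a)) ht)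
      rw [map_zero, map_zero] at h1
      simp only [t, map_sum, LinearMap.lTensor_tmul, hc] at h1
      rw [Finset.sum_eq_single a] at h1
      · rw [if_pos rfl, ← map_one (Ideal.Quotient.mk n), TensorProduct.tensorQuotEquivQuotSMul_tmul_mk, one_smul,
          Submodule.Quotient.mk_eq_zero, Submodule.mem_smul_top_iff] at h1
        rw [pow_succ']
        exact h1
      · intro b _ hb
        rw [if_neg (Ne.symm hb), TensorProduct.tmul_zero, map_zero]
      · intro ha
        rw [if_pos rfl, show (⟨v a, ih a⟩ : J) = 0 from Subtype.ext (Finsupp.notMem_support_iff.1 ha),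
          TensorProduct.zero_tmul, map_zero]
  obtain ⟨k, hk'⟩ := hn
  ext a
  have := hk k a
  rwa [hk', Ideal.zero_eq_bot, Ideal.mem_bot] at this

/-- The flattening ideal of a module that is free modulo a nilpotent ideal. -/
theorem exists_flattening_of_free {M : Type u} [AddCommGroup M] [Module R M] [IsNoetherianRing R]
    {Q : Type u} [CommRing Q] [Algebra R Q] (hsurj : Function.Surjective (algebraMap R Q))
    (hn : IsNilpotent (RingHom.ker (algebraMap R Q))) [Module.Free Q (Q ⊗[R] M)] :
    ∃ J : Ideal R, J ≤ RingHom.ker (algebraMap R Q) ∧ ∀ (A' : Type u) [CommRing A'] [Algebra R A'],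
      (Module.Flat A' (A' ⊗[R] M) ↔ J.map (algebraMap R A') = ⊥) := by
  classical
  obtain ⟨⟨α, b⟩⟩ := Module.Free.exists_basis (R := Q) (M := Q ⊗[R] M)
  set n := RingHom.ker (algebraMap R Q) with hndef
  have hlift : ∀ z : Q ⊗[R] M, ∃ m : M, (1 : Q) ⊗ₜ[R] m = z := by
    intro z
    induction z using TensorProduct.induction_on with
    | zero => exact ⟨0, TensorProduct.tmul_zero _ _⟩
    | add x y hx hy =>
      obtain ⟨mx, rfl⟩ := hx
      obtain ⟨my, rfl⟩ := hy
      exact ⟨mx + my, TensorProduct.tmul_add _ _ _⟩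
    | tmul q m =>
      obtain ⟨r, rfl⟩ := hsurj q
      exact ⟨r • m, by rw [TensorProduct.tmul_smul, TensorProduct.smul_tmul', Algebra.smul_def, mul_one]⟩
  choose m hm using fun a => hlift (b a)
  let φ : (α →₀ R) →ₗ[R] M := Finsupp.linearCombination R m
  have hbv : ∀ v, (1 : Q) ⊗ₜ[R] φ v = Finsupp.linearCombination Q b (v.mapRange (algebraMap R Q) (map_zero _)) := by
    intro v
    simp only [φ, Finsupp.linearCombination_apply]
    rw [Finsupp.sum_mapRange_index]
    · simp only [Finsupp.sum, TensorProduct.tmul_sum, TensorProduct.tmul_smul, hm, algebraMap_smul]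
    · exact fun _ => zero_smul _ _
  have hker : ∀ v ∈ LinearMap.ker φ, ∀ a, v a ∈ n := by
    intro v hv a
    have h1 := hbv v
    rw [LinearMap.mem_ker.1 hv, TensorProduct.tmul_zero] at h1
    have h2 := congrArg (fun z => b.repr z a) h1
    simp only [map_zero, Finsupp.zero_apply, Module.Basis.repr_linearCombination, Finsupp.mapRange_apply] at h2
    exact h2.symm
  have hφ : Function.Surjective φ := by
    rw [← LinearMap.range_eq_top]
    refine eq_top_of_sup_smul_top n hn _ fun x => ?_
    obtain ⟨w, hw⟩ : ∃ v, (1 : Q) ⊗ₜ[R] φ v = (1 : Q) ⊗ₜ[R] x := by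
      obtain ⟨v, hv⟩ := Finsupp.mapRange_surjective (algebraMap R Q) (map_zero _) hsurj (b.repr ((1 : Q) ⊗ₜ[R] x))
      exact ⟨v, by rw [hbv, hv, Module.Basis.linearCombination_repr]⟩
    have hmem : x - φ w ∈ n • (⊤ : Submodule R M) := by
      have h0 : (1 : Q) ⊗ₜ[R] (x - φ w) = 0 := by rw [TensorProduct.tmul_sub, hw, sub_self]
      let e : (R ⧸ n) ≃ₐ[R] Q := Ideal.quotientKerAlgEquivOfSurjective (f := Algebra.ofId R Q) hsurj
      have h1 := congrArg (TensorProduct.quotTensorEquivQuotSMul M n)
        (congrArg (LinearMap.rTensor M e.symm.toLinearMap) h0)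
      rw [map_zero, map_zero, LinearMap.rTensor_tmul, AlgEquiv.toLinearMap_apply, map_one,
        ← map_one (Ideal.Quotient.mk n), TensorProduct.quotTensorEquivQuotSMul_mk_tmul, one_smul,
        Submodule.Quotient.mk_eq_zero] at h1
      exact h1
    exact Submodule.mem_sup.2 ⟨φ w, ⟨w, rfl⟩, x - φ w, hmem, by abel⟩
  let J : Ideal R := ⨆ a, (LinearMap.ker φ).map (Finsupp.lapply a)
  refine ⟨J, iSup_le fun a => by rintro _ ⟨v, hv, rfl⟩; exact hker v hv a, fun A' _ _ => ?_⟩
  let ψ : (α →₀ A') →ₗ[A'] A' ⊗[R] M := Finsupp.linearCombination A' fun a => (1 : A') ⊗ₜ[R] m a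
  have hψ : ∀ v : α →₀ R, ψ (v.mapRange (algebraMap R A') (map_zero _)) = (1 : A') ⊗ₜ[R] φ v := by
    intro v
    simp only [ψ, φ, Finsupp.linearCombination_apply]
    rw [Finsupp.sum_mapRange_index]
    · simp only [Finsupp.sum, TensorProduct.tmul_sum, TensorProduct.tmul_smul, algebraMap_smul]
    · exact fun _ => zero_smul _ _
  constructor
  · intro hflat
    rw [← le_bot_iff, Ideal.map_le_iff_le_comap]
    refine iSup_le fun a => ?_
    rintro _ ⟨v, hv, rfl⟩
    let n' := n.map (algebraMap R A')
    have hn' : IsNilpotent n' := by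
      obtain ⟨k, hk⟩ := hn
      exact ⟨k, by rw [← Ideal.map_pow, hk, Ideal.zero_eq_bot, Ideal.map_bot, Ideal.zero_eq_bot]⟩
    let e : (R ⧸ n) ≃ₐ[R] Q := Ideal.quotientKerAlgEquivOfSurjective (f := Algebra.ofId R Q) hsurj
    let π : (R ⧸ n) →ₐ[R] A' ⧸ n' := Ideal.Quotient.liftₐ n
      ((Ideal.Quotient.mkₐ R n').comp (Algebra.ofId R A'))
      fun r hr => Ideal.Quotient.eq_zero_iff_mem.2 (Ideal.mem_map_of_mem _ hr)
    let c : α → A' ⊗[R] M →ₗ[A'] A' ⧸ n' := fun a =>
      (π.toLinearMap ∘ₗ e.symm.toLinearMap ∘ₗ ((Finsupp.lapply a : (α →₀ Q) →ₗ[Q] Q).restrictScalars R) ∘ₗ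
        b.repr.toLinearMap.restrictScalars R ∘ₗ TensorProduct.mk R Q M 1).liftBaseChange A'
    have hc : ∀ a a', c a ((1 : A') ⊗ₜ[R] m a') = if a = a' then 1 else 0 := by
      intro a a'
      simp only [c, LinearMap.liftBaseChange_tmul, one_smul, LinearMap.coe_comp, Function.comp_apply,
        LinearMap.restrictScalars_apply, TensorProduct.mk_apply, hm, LinearEquiv.coe_coe, Module.Basis.repr_self,
        Finsupp.lapply_apply, Finsupp.single_apply, AlgEquiv.toLinearMap_apply, AlgHom.toLinearMap_apply]
      by_cases h : a = a'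
      · simp [h]
      · rw [if_neg h, if_neg (Ne.symm h), map_zero, map_zero]
    have h1 := eq_zero_of_flat n' hn' (fun a => (1 : A') ⊗ₜ[R] m a) c hc
      (v.mapRange (algebraMap R A') (map_zero _))
      ((hψ v).trans (by rw [LinearMap.mem_ker.1 hv, TensorProduct.tmul_zero]))
    exact DFunLike.congr_fun h1 a
  · intro hJ
    let χ : M →ₗ[R] (α →₀ A') :=
      (LinearMap.ker φ).liftQ (Finsupp.mapRange.linearMap (Algebra.linearMap R A')) (fun v hv => by
        rw [LinearMap.mem_ker]
        ext a
        show algebraMap R A' (v a) = 0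
        rw [← Ideal.mem_bot, ← hJ]
        exact Ideal.mem_map_of_mem _ (le_iSup (fun a => (LinearMap.ker φ).map (Finsupp.lapply a)) a ⟨v, hv, rfl⟩))
        ∘ₗ (φ.quotKerEquivOfSurjective hφ).symm.toLinearMap
    have hχ : ∀ v, χ (φ v) = v.mapRange (algebraMap R A') (map_zero _) := fun v => by
      simp only [χ, LinearMap.coe_comp, Function.comp_apply, LinearEquiv.coe_coe]
      rw [show (φ.quotKerEquivOfSurjective hφ).symm (φ v) = Submodule.Quotient.mk v from
        (LinearEquiv.symm_apply_eq _).2 rfl, Submodule.liftQ_apply]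
      rfl
    let E : (α →₀ A') ≃ₗ[A'] A' ⊗[R] M := LinearEquiv.ofLinearMap ψ (χ.liftBaseChange A')
      (by
        refine TensorProduct.AlgebraTensorModule.ext fun s x => ?_
        obtain ⟨v, rfl⟩ := hφ x
        show ψ (χ.liftBaseChange A' (s ⊗ₜ φ v)) = s ⊗ₜ φ v
        rw [LinearMap.liftBaseChange_tmul, hχ, map_smul, hψ, TensorProduct.smul_tmul', smul_eq_mul, mul_one])
      (by
        refine Finsupp.lhom_ext fun a s => ?_
        show χ.liftBaseChange A' (ψ (Finsupp.single a s)) = Finsupp.single a s
        rw [Finsupp.linearCombination_single, map_smul, LinearMap.liftBaseChange_tmul, one_smul,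
          show m a = φ (Finsupp.single a 1) by simp [φ], hχ, Finsupp.mapRange_single, map_one, Finsupp.smul_single',
          mul_one])
    exact Module.Flat.of_linearEquiv E.symm

end Groth.Agent.Lib.GenFlatten
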